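import Mathlib

/-!
Images of constructible sets under maps of finite type: they contain a dense open piece of the
closure of each of their points; closed points in Jacobson spectra.
-/

namespace Groth.Agent.GenImage

universe u v

open PrimeSpectrum

/-- A finite type extension of domains hits all primes outside some nonzero element. -/
theorem exists_basicOpen_subset_range {A : Type u} {B : Type v} [CommRing A] [IsDomain A] [CommRing B]
    [IsDomain B] [Algebra A B] [Algebra.FiniteType A B] (hinj : Function.Injective (algebraMap A B)) :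
    ∃ a : A, a ≠ 0 ∧ ∀ p : PrimeSpectrum A, a ∉ p.asIdeal → ∃ q : Ideal B, q.IsPrime ∧ q.comap (algebraMap A B) = p.asIdeal := by
  classical
  have : FaithfulSMul A B := (faithfulSMul_iff_algebraMap_injective A B).2 hinj
  obtain ⟨s, hs⟩ := ‹Algebra.FiniteType A B›
  have : Algebra.IsAlgebraic (Algebra.adjoin A (s : Set B)) B := by
    refine ⟨fun x => ?_⟩
    have hx : x ∈ Algebra.adjoin A (s : Set B) := hs ▸ Algebra.mem_top
    exact isAlgebraic_algebraMap (⟨x, hx⟩ : Algebra.adjoin A (s : Set B))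
  obtain ⟨t, -, ht⟩ := exists_isTranscendenceBasis_subset (R := A) (s : Set B)
  let C := MvPolynomial t A
  let φ : C →ₐ[A] B := MvPolynomial.aeval (Subtype.val : t → B)
  have hφ : Function.Injective φ := ht.1
  let := φ.toRingHom.toAlgebra
  have : IsScalarTower A C B := IsScalarTower.of_algebraMap_eq' φ.comp_algebraMap.symm
  have halg : ∀ x : B, IsAlgebraic C x := by
    intro x
    have hrange : Algebra.adjoin A (Set.range (Subtype.val : t → B)) = φ.range :=
      Algebra.adjoin_range_eq_range_aeval A _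
    have h := ht.isAlgebraic.isAlgebraic x
    obtain ⟨P, hP, hPx⟩ := h
    have hrep : ∀ i, ∃ c : C, φ c = (P.coeff i : B) := fun i => by
      have : ((P.coeff i) : B) ∈ φ.range := hrange ▸ (P.coeff i).2
      exact this
    choose c hc using hrep
    refine ⟨∑ i ∈ Finset.range (P.natDegree + 1), Polynomial.monomial i (c i), ?_, ?_⟩
    · intro h0
      apply hP
      ext i
      rw [Polynomial.coeff_zero, ZeroMemClass.coe_zero, ← hc i]
      by_cases hi : i < P.natDegree + 1
      · have := congrArg (fun Q : Polynomial C => Q.coeff i) h0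
        simp [Polynomial.coeff_monomial, hi] at this
        rw [this, map_zero]
      · rw [hc i, Polynomial.coeff_eq_zero_of_natDegree_lt (by omega), ZeroMemClass.coe_zero]
    · rw [← hPx, map_sum, Polynomial.aeval_eq_sum_range]
      refine Finset.sum_congr rfl fun i _ => ?_
      rw [Polynomial.aeval_monomial, Algebra.smul_def]
      exact congrArg (· * x ^ i) (hc i)
  choose a ha0 hai using fun x : B => (halg x).exists_integral_multiple
  let c : C := ∏ g ∈ s, a g
  have hc0 : c ≠ 0 := Finset.prod_ne_zero_iff.2 fun g _ => ha0 g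
  obtain ⟨m, hm⟩ := MvPolynomial.ne_zero_iff.1 hc0
  let B' := integralClosure C B
  let cB : B' := algebraMap C B' c
  have hpow : ∀ x : B, ∃ N : ℕ, algebraMap C B c ^ N * x ∈ B' := by
    intro x
    have hx : x ∈ Algebra.adjoin A (s : Set B) := hs ▸ Algebra.mem_top
    induction hx using Algebra.adjoin_induction with
    | mem g hg =>
      refine ⟨1, ?_⟩
      obtain ⟨d, hd⟩ := Finset.dvd_prod_of_mem a hg
      rw [pow_one, show c = a g * d from hd, map_mul, mul_comm (algebraMap C B (a g)), mul_assoc, ← Algebra.smul_def (a g)]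
      exact mul_mem (B'.algebraMap_mem d) (hai g)
    | algebraMap r =>
      refine ⟨0, ?_⟩
      rw [pow_zero, one_mul, IsScalarTower.algebraMap_apply A C B]
      exact B'.algebraMap_mem _
    | add x y _ _ hx hy =>
      obtain ⟨N, hN⟩ := hx; obtain ⟨M, hM⟩ := hy
      refine ⟨N + M, ?_⟩
      have e : algebraMap C B c ^ (N + M) * (x + y) =
          algebraMap C B c ^ M * (algebraMap C B c ^ N * x) + algebraMap C B c ^ N * (algebraMap C B c ^ M * y) := by ring
      rw [e]
      exact add_mem (mul_mem (pow_mem (B'.algebraMap_mem c) _) hN) (mul_mem (pow_mem (B'.algebraMap_mem c) _) hM)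
    | mul x y _ _ hx hy =>
      obtain ⟨N, hN⟩ := hx; obtain ⟨M, hM⟩ := hy
      refine ⟨N + M, ?_⟩
      have e : algebraMap C B c ^ (N + M) * (x * y) =
          (algebraMap C B c ^ N * x) * (algebraMap C B c ^ M * y) := by ring
      rw [e]
      exact mul_mem hN hM
  refine ⟨c.coeff m, hm, fun p hp => ?_⟩
  let P : Ideal C := p.asIdeal.map (MvPolynomial.C : A →+* C)
  have hPmem : ∀ f : C, f ∈ P ↔ ∀ n, f.coeff n ∈ p.asIdeal := fun f => MvPolynomial.mem_map_C_iff
  have hPprime : P.IsPrime := by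
    show (p.asIdeal.map (MvPolynomial.C : A →+* MvPolynomial t A)).IsPrime
    rw [show p.asIdeal = RingHom.ker (Ideal.Quotient.mk p.asIdeal) from Ideal.mk_ker.symm,
      ← MvPolynomial.ker_map]
    exact RingHom.ker_isPrime _
  have hcP : c ∉ P := fun h => hp ((hPmem c).1 h m)
  have hPcomap : P.comap (algebraMap A C) = p.asIdeal := by
    ext r
    rw [Ideal.mem_comap, hPmem]
    refine ⟨fun h => ?_, fun h n => ?_⟩
    · have := h 0
      rw [show algebraMap A C r = MvPolynomial.C r from rfl, MvPolynomial.coeff_zero_C] at this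
      exact this
    · rw [MvPolynomial.algebraMap_eq, MvPolynomial.coeff_C]
      split_ifs
      exacts [h, zero_mem _]
  have hinjB' : Function.Injective (algebraMap C B') := fun x y h =>
    hφ (show φ x = φ y from congrArg (Subtype.val : B' → B) h)
  obtain ⟨Q', -, hQ', hQ'P⟩ := Ideal.exists_ideal_over_prime_of_isIntegral (R := C) (S := B') P ⊥
    (fun x hx => by
      rw [Ideal.mem_comap, Ideal.mem_bot, map_eq_zero_iff _ hinjB'] at hx
      rw [hx]; exact zero_mem _)
  have hcQ' : cB ∉ Q' := fun h => hcP (hQ'P ▸ (h : c ∈ Q'.comap (algebraMap C B')))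
  let Q : Ideal B :=
    { carrier := {b | ∃ (N : ℕ) (h : algebraMap C B c ^ N * b ∈ B'), (⟨_, h⟩ : B') ∈ Q'}
      zero_mem' := ⟨0, by simp, by
        have e : (⟨algebraMap C B c ^ 0 * 0, by simp⟩ : B') = 0 := Subtype.ext (by simp)
        exact e ▸ Q'.zero_mem⟩
      add_mem' := by
        rintro x y ⟨N, hN, hN'⟩ ⟨M, hM, hM'⟩
        have e : algebraMap C B c ^ (N + M) * (x + y) =
            algebraMap C B c ^ M * (algebraMap C B c ^ N * x) + algebraMap C B c ^ N * (algebraMap C B c ^ M * y) := by ring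
        have hmem : algebraMap C B c ^ (N + M) * (x + y) ∈ B' := by
          rw [e]; exact add_mem (mul_mem (pow_mem (B'.algebraMap_mem c) _) hN) (mul_mem (pow_mem (B'.algebraMap_mem c) _) hM)
        refine ⟨N + M, hmem, ?_⟩
        have : (⟨_, hmem⟩ : B') = cB ^ M * ⟨_, hN⟩ + cB ^ N * ⟨_, hM⟩ := Subtype.ext (by simpa [cB] using e)
        rw [this]
        exact add_mem (Q'.mul_mem_left _ hN') (Q'.mul_mem_left _ hM')
      smul_mem' := by
        rintro z x ⟨N, hN, hN'⟩
        obtain ⟨M, hM⟩ := hpow z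
        have e : algebraMap C B c ^ (N + M) * (z • x) =
            (algebraMap C B c ^ M * z) * (algebraMap C B c ^ N * x) := by rw [smul_eq_mul]; ring
        have hmem : algebraMap C B c ^ (N + M) * (z • x) ∈ B' := by rw [e]; exact mul_mem hM hN
        refine ⟨N + M, hmem, ?_⟩
        have : (⟨_, hmem⟩ : B') = ⟨_, hM⟩ * ⟨_, hN⟩ := Subtype.ext (by simpa using e)
        rw [this]
        exact Q'.mul_mem_left _ hN' }
  have hkey : ∀ (x : B) (N : ℕ) (h : algebraMap C B c ^ N * x ∈ B'), x ∈ Q → (⟨_, h⟩ : B') ∈ Q' := by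
    rintro x N h ⟨M, hM, hM'⟩
    have e : cB ^ M * (⟨_, h⟩ : B') = cB ^ N * ⟨_, hM⟩ := Subtype.ext (by simp [cB]; ring)
    have := e ▸ Q'.mul_mem_left (cB ^ N) hM'
    exact (hQ'.mem_or_mem this).resolve_left fun h => hcQ' (hQ'.mem_of_pow_mem _ h)
  have hC : ∀ x : C, algebraMap C B x ∈ Q ↔ x ∈ P := by
    intro x
    have h0 : algebraMap C B c ^ 0 * algebraMap C B x ∈ B' := by simpa using B'.algebraMap_mem x
    have e : (⟨_, h0⟩ : B') = algebraMap C B' x := Subtype.ext (by simp)
    rw [← hQ'P, Ideal.mem_comap, ← e]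
    exact ⟨fun h => hkey _ 0 h0 h, fun h => ⟨0, h0, h⟩⟩
  refine ⟨Q, ⟨?_, ?_⟩, ?_⟩
  · intro htop
    have h1 : algebraMap C B 1 ∈ Q := by rw [htop]; trivial
    exact hPprime.ne_top ((Ideal.eq_top_iff_one _).2 ((hC 1).1 h1))
  · intro x y hxy
    obtain ⟨N, hN⟩ := hpow x
    obtain ⟨M, hM⟩ := hpow y
    have e : algebraMap C B c ^ (N + M) * (x * y) = (algebraMap C B c ^ N * x) * (algebraMap C B c ^ M * y) := by ring
    have hmem : algebraMap C B c ^ (N + M) * (x * y) ∈ B' := by rw [e]; exact mul_mem hN hM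
    have h' := hkey _ _ hmem hxy
    have he : (⟨_, hmem⟩ : B') = ⟨_, hN⟩ * ⟨_, hM⟩ := Subtype.ext (by simpa using e)
    rw [he] at h'
    exact (hQ'.mem_or_mem h').imp (fun h => ⟨N, hN, h⟩) (fun h => ⟨M, hM, h⟩)
  · ext r
    rw [Ideal.mem_comap, IsScalarTower.algebraMap_apply A C B, hC, ← hPcomap, Ideal.mem_comap]

variable {R S : Type u} [CommRing R] [CommRing S] [Algebra R S]

/-- A point of a constructible set has a basic locally closed neighbourhood in it. -/
theorem exists_basic_nhd {E : Set (PrimeSpectrum S)} (hE : Topology.IsConstructible E)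
    {η : PrimeSpectrum S} (hη : η ∈ E) :
    ∃ f : S, f ∉ η.asIdeal ∧ ∀ y : PrimeSpectrum S, f ∉ y.asIdeal → η.asIdeal ≤ y.asIdeal → y ∈ E := by
  obtain ⟨D, rfl⟩ := exists_constructibleSetData_iff.2 hE
  simp only [ConstructibleSetData.toSet, Set.mem_iUnion] at hη
  obtain ⟨C, hC, hη1, hη2⟩ := hη
  refine ⟨C.f, fun h => hη2 (by simpa [mem_zeroLocus] using h), fun y hy hle => ?_⟩
  simp only [ConstructibleSetData.toSet, Set.mem_iUnion]
  exact ⟨C, hC, fun z hz => hle (hη1 hz), fun h => hy (by simpa [mem_zeroLocus] using h)⟩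

theorem closure_singleton_eq (x : PrimeSpectrum R) :
    closure ({x} : Set (PrimeSpectrum R)) = {y | x.asIdeal ≤ y.asIdeal} := by
  rw [PrimeSpectrum.closure_singleton]; ext y; exact Iff.rfl

/-- Near any point of the image, the image contains a dense open piece of its closure. -/
theorem exists_open_piece [Algebra.FiniteType R S] {E : Set (PrimeSpectrum S)}
    (hE : Topology.IsConstructible E) {ξ : PrimeSpectrum R} (hξ : ξ ∈ comap (algebraMap R S) '' E) :
    ∃ U : Set (PrimeSpectrum R), IsOpen U ∧ ξ ∈ U ∧ U ∩ closure {ξ} ⊆ comap (algebraMap R S) '' E := by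
  obtain ⟨η, hη, rfl⟩ := hξ
  obtain ⟨f, hf, hfE⟩ := exists_basic_nhd hE hη
  set ξ := comap (algebraMap R S) η with hξdef
  let fb := Ideal.Quotient.mk η.asIdeal f
  have hfb : fb ≠ 0 := fun h => hf (Ideal.Quotient.eq_zero_iff_mem.1 h)
  let B := Localization.Away fb
  have hle : Submonoid.powers fb ≤ nonZeroDivisors (S ⧸ η.asIdeal) :=
    powers_le_nonZeroDivisors_of_noZeroDivisors hfb
  have : IsDomain B := IsLocalization.isDomain_localization hle
  let π : S →+* B := (algebraMap (S ⧸ η.asIdeal) B).comp (Ideal.Quotient.mk η.asIdeal)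
  let ρ : R ⧸ ξ.asIdeal →+* B := Ideal.Quotient.lift ξ.asIdeal (π.comp (algebraMap R S)) fun r hr => by
    show algebraMap (S ⧸ η.asIdeal) B (Ideal.Quotient.mk η.asIdeal (algebraMap R S r)) = 0
    rw [(Ideal.Quotient.eq_zero_iff_mem (I := η.asIdeal)).2 hr, map_zero]
  let := ρ.toAlgebra
  have hπft : (π.comp (algebraMap R S)).FiniteType := by
    refine RingHom.FiniteType.comp (RingHom.FiniteType.comp ?_ (RingHom.FiniteType.of_surjective _ Ideal.Quotient.mk_surjective))
      (RingHom.finiteType_algebraMap.2 ‹_›)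
    exact RingHom.finiteType_algebraMap.2 (IsLocalization.finiteType_of_monoid_fg (Submonoid.powers fb) B)
  have : Algebra.FiniteType (R ⧸ ξ.asIdeal) B :=
    RingHom.FiniteType.of_comp_finiteType (f := Ideal.Quotient.mk ξ.asIdeal) (g := ρ) hπft
  have hinj : Function.Injective (algebraMap (R ⧸ ξ.asIdeal) B) := by
    rw [injective_iff_map_eq_zero]
    intro x hx
    obtain ⟨r, rfl⟩ := Ideal.Quotient.mk_surjective x
    have hx' : algebraMap (S ⧸ η.asIdeal) B (Ideal.Quotient.mk η.asIdeal (algebraMap R S r)) = 0 := hx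
    rw [map_eq_zero_iff _ (IsLocalization.injective B hle), Ideal.Quotient.eq_zero_iff_mem] at hx'
    exact Ideal.Quotient.eq_zero_iff_mem.2 hx'
  obtain ⟨a, ha0, ha⟩ := exists_basicOpen_subset_range hinj
  obtain ⟨a, rfl⟩ := Ideal.Quotient.mk_surjective a
  refine ⟨basicOpen a, (basicOpen a).2, fun h => ha0 (Ideal.Quotient.eq_zero_iff_mem.2 h), ?_⟩
  rintro x ⟨hxa, hxξ⟩
  rw [closure_singleton_eq] at hxξ
  have hker : RingHom.ker (Ideal.Quotient.mk ξ.asIdeal) ≤ x.asIdeal := by rw [Ideal.mk_ker]; exact hxξ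
  let xb : PrimeSpectrum (R ⧸ ξ.asIdeal) :=
    ⟨x.asIdeal.map (Ideal.Quotient.mk ξ.asIdeal), Ideal.map_isPrime_of_surjective Ideal.Quotient.mk_surjective hker⟩
  have hcm : (x.asIdeal.map (Ideal.Quotient.mk ξ.asIdeal)).comap (Ideal.Quotient.mk ξ.asIdeal) = x.asIdeal := by
    rw [Ideal.comap_map_of_surjective _ Ideal.Quotient.mk_surjective, ← RingHom.ker_eq_comap_bot]
    exact sup_eq_left.2 hker
  have hab : Ideal.Quotient.mk ξ.asIdeal a ∉ xb.asIdeal := fun h => hxa (Eq.le hcm (show a ∈ (x.asIdeal.map (Ideal.Quotient.mk ξ.asIdeal)).comap (Ideal.Quotient.mk ξ.asIdeal) from h))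
  obtain ⟨Q, hQ, hQx⟩ := ha xb hab
  refine ⟨⟨Q.comap π, Ideal.IsPrime.comap π⟩, hfE _ (fun h => ?_) (fun z hz => ?_), PrimeSpectrum.ext ?_⟩
  · refine hQ.ne_top (Ideal.eq_top_of_isUnit_mem _ h ?_)
    exact IsLocalization.map_units B (⟨fb, Submonoid.mem_powers fb⟩ : Submonoid.powers fb)
  · show π z ∈ Q
    rw [show π z = algebraMap (S ⧸ η.asIdeal) B (Ideal.Quotient.mk η.asIdeal z) from rfl,
      Ideal.Quotient.eq_zero_iff_mem.2 hz, map_zero]
    exact zero_mem _
  · show (Q.comap π).comap (algebraMap R S) = x.asIdeal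
    have h2 : Q.comap (π.comp (algebraMap R S)) = (Q.comap (algebraMap (R ⧸ ξ.asIdeal) B)).comap (Ideal.Quotient.mk ξ.asIdeal) := by
      rw [Ideal.comap_comap]; rfl
    rw [Ideal.comap_comap, h2, hQx]
    exact hcm

/-- If the closure of a point lies in the closure of the image, the point is in the image. -/
theorem mem_image_of_mem_closure {E : Set (PrimeSpectrum S)}
    (hE : Topology.IsConstructible E) {ξ : PrimeSpectrum R}
    (hξ : ξ ∈ closure (closure {ξ} ∩ comap (algebraMap R S) '' E)) :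
    ξ ∈ comap (algebraMap R S) '' E := by
  obtain ⟨D, rfl⟩ := exists_constructibleSetData_iff.2 hE
  have hset : closure {ξ} ∩ comap (algebraMap R S) '' D.toSet =
      ⋃ C ∈ D, closure {ξ} ∩ comap (algebraMap R S) '' C.toSet := by
    rw [ConstructibleSetData.toSet, Set.image_iUnion₂, Set.inter_iUnion₂]
  rw [hset] at hξ
  simp only [← Finset.mem_coe] at hξ
  rw [D.finite_toSet.closure_biUnion, Set.mem_iUnion₂] at hξ
  obtain ⟨C, hC, hξC⟩ := hξ
  let J : Ideal S := Ideal.span (Set.range C.g) ⊔ ξ.asIdeal.map (algebraMap R S)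
  let fb := Ideal.Quotient.mk J C.f
  let B := Localization.Away fb
  let π : S →+* B := (algebraMap (S ⧸ J) B).comp (Ideal.Quotient.mk J)
  have hrange : closure {ξ} ∩ comap (algebraMap R S) '' C.toSet ⊆
      Set.range (comap (π.comp (algebraMap R S))) := by
    rintro x ⟨hx, y, ⟨hy1, hy2⟩, rfl⟩
    rw [closure_singleton_eq] at hx
    have hJ : J ≤ y.asIdeal := sup_le (Ideal.span_le.2 hy1) (Ideal.map_le_iff_le_comap.2 hx)
    have hyf : C.f ∉ y.asIdeal := fun h => hy2 (by simpa [mem_zeroLocus] using h)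
    have hkey : ∃ Q : PrimeSpectrum B, comap π Q = y := by
      have hker : RingHom.ker (Ideal.Quotient.mk J) ≤ y.asIdeal := by rw [Ideal.mk_ker]; exact hJ
      let yb : PrimeSpectrum (S ⧸ J) :=
        ⟨y.asIdeal.map (Ideal.Quotient.mk J), Ideal.map_isPrime_of_surjective Ideal.Quotient.mk_surjective hker⟩
      have hcm : (y.asIdeal.map (Ideal.Quotient.mk J)).comap (Ideal.Quotient.mk J) = y.asIdeal := by
        rw [Ideal.comap_map_of_surjective _ Ideal.Quotient.mk_surjective, ← RingHom.ker_eq_comap_bot]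
        exact sup_eq_left.2 hker
      have hyb : yb ∈ (basicOpen fb : Set (PrimeSpectrum (S ⧸ J))) := fun h =>
        hyf (Eq.le hcm (show C.f ∈ (y.asIdeal.map (Ideal.Quotient.mk J)).comap (Ideal.Quotient.mk J) from h))
      rw [← localization_away_comap_range B fb] at hyb
      obtain ⟨Q, hQ⟩ := hyb
      exact ⟨Q, by rw [comap_comp_apply, hQ]; exact PrimeSpectrum.ext hcm⟩
    obtain ⟨Q, rfl⟩ := hkey
    exact ⟨Q, comap_comp_apply _ _ _⟩
  have h1 := closure_mono hrange hξC
  rw [closure_range_comap, mem_zeroLocus] at h1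
  have hmin : ξ.asIdeal ∈ (Ideal.comap (π.comp (algebraMap R S)) ⊥).minimalPrimes := by
    refine ⟨⟨ξ.isPrime, ?_⟩, fun q hq hle r hr => hq.2 ?_⟩
    · exact fun r hr => h1 hr
    · show π (algebraMap R S r) = 0
      show algebraMap (S ⧸ J) B (Ideal.Quotient.mk J (algebraMap R S r)) = 0
      rw [Ideal.Quotient.eq_zero_iff_mem.2 (Ideal.mem_sup_right (Ideal.mem_map_of_mem _ hr)), map_zero]
  obtain ⟨Q, hQ, -, hQξ⟩ := Ideal.exists_comap_eq_of_mem_minimalPrimes (π.comp (algebraMap R S)) ξ.asIdeal hmin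
  refine ⟨comap π ⟨Q, hQ⟩, ?_, PrimeSpectrum.ext ((Ideal.comap_comap _ _).trans hQξ)⟩
  simp only [ConstructibleSetData.toSet, Set.mem_iUnion]
  refine ⟨C, hC, ?_, ?_⟩
  · intro z hz
    show π z ∈ Q
    rw [show π z = algebraMap (S ⧸ J) B (Ideal.Quotient.mk J z) from rfl,
      Ideal.Quotient.eq_zero_iff_mem.2 (Ideal.mem_sup_left (Ideal.subset_span hz)), map_zero]
    exact zero_mem _
  · intro h
    rw [mem_zeroLocus, Set.singleton_subset_iff] at h
    exact hQ.ne_top (Ideal.eq_top_of_isUnit_mem _ h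
      (IsLocalization.map_units B (⟨fb, Submonoid.mem_powers fb⟩ : Submonoid.powers fb)))

/-- The points of a constructible subset closed in it are closed points. -/
theorem closed_in_iff [IsJacobsonRing S] {E : Set (PrimeSpectrum S)} (hE : Topology.IsConstructible E) :
    {y | y ∈ E ∧ closure {y} ∩ E = {y}} = E ∩ closedPoints (PrimeSpectrum S) := by
  ext y
  refine ⟨fun ⟨hy, hcl⟩ => ⟨hy, ?_⟩, fun ⟨hy, hc⟩ => ⟨hy, ?_⟩⟩
  · obtain ⟨f, hf, hfE⟩ := exists_basic_nhd hE hy
    refine isClosed_singleton_of_isLocallyClosed_singleton ?_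
    refine ⟨basicOpen f, closure {y}, (basicOpen f).2, isClosed_closure, ?_⟩
    refine (Set.eq_of_subset_of_subset ?_ ?_).symm
    · rintro z ⟨hzf, hzy⟩
      have hzy' := hzy
      rw [closure_singleton_eq] at hzy'
      exact hcl ▸ ⟨hzy, hfE z hzf hzy'⟩
    · rintro z rfl
      exact ⟨hf, subset_closure rfl⟩
  · rw [IsClosed.closure_eq hc]
    exact Set.inter_eq_left.2 (Set.singleton_subset_iff.2 hy)

/-- A closed point of a finite type algebra over a Jacobson ring maps to a closed point. -/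
theorem isClosed_image_point [IsJacobsonRing R] [Algebra.FiniteType R S] {y : PrimeSpectrum S}
    (hy : IsClosed ({y} : Set (PrimeSpectrum S))) :
    IsClosed ({comap (algebraMap R S) y} : Set (PrimeSpectrum R)) := by
  rw [isClosed_singleton_iff_isMaximal] at hy ⊢
  let p := (comap (algebraMap R S) y).asIdeal
  let F := S ⧸ y.asIdeal
  let := Ideal.Quotient.field y.asIdeal
  have : Algebra.FiniteType R F := inferInstance
  have : Module.Finite R F := finite_of_finite_type_of_isJacobsonRing R F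
  have : Algebra.IsIntegral R F := Algebra.IsIntegral.of_finite R F
  have h := Ideal.isMaximal_comap_of_isIntegral_of_isMaximal (R := R) (S := F) (⊥ : Ideal F)
  have e : (⊥ : Ideal F).comap (algebraMap R F) = p := by
    ext r
    rw [Ideal.mem_comap, Ideal.mem_bot]
    exact Ideal.Quotient.eq_zero_iff_mem
  rwa [e] at h

/-- A nonempty basic piece of a constructible set over a closed point contains a closed point. -/
theorem exists_closedPoint_over [IsJacobsonRing S] {E : Set (PrimeSpectrum S)}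
    (hE : Topology.IsConstructible E) {x : PrimeSpectrum R} (hx : IsClosed ({x} : Set (PrimeSpectrum R)))
    (hxE : x ∈ comap (algebraMap R S) '' E) :
    x ∈ comap (algebraMap R S) '' (E ∩ closedPoints (PrimeSpectrum S)) := by
  obtain ⟨η, hη, rfl⟩ := hxE
  obtain ⟨f, hf, hfE⟩ := exists_basic_nhd hE hη
  let Z : Set (PrimeSpectrum S) := (basicOpen f : Set (PrimeSpectrum S)) ∩
    (closure {η} ∩ comap (algebraMap R S) ⁻¹' {comap (algebraMap R S) η})
  have hZ : IsLocallyClosed Z :=
    ⟨basicOpen f, _, (basicOpen f).2, isClosed_closure.inter (hx.preimage (continuous_comap _)), rfl⟩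
  obtain ⟨z, ⟨hzf, hzη, hzx⟩, hzc⟩ := nonempty_inter_closedPoints (show Z.Nonempty from ⟨η, hf, subset_closure rfl, rfl⟩) hZ
  rw [closure_singleton_eq] at hzη
  exact ⟨z, ⟨hfE z hzf hzη, hzc⟩, hzx⟩

end Groth.Agent.GenImage
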